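import Cfsg.Agent.H893.CLen
import Cfsg.Agent.H893.Fac
import Cfsg.Agent.Lib.ElemAbGL
import Cfsg.Agent.S0703
import Cfsg.Agent.S0722
set_option linter.all false

-- part: H893/PermBd
section
/-!
# Composition length of permutation groups: reduction to primitive groups

`Bd n` : a permutation group of degree `n` with an invariant map onto a set with `m` elements has
composition length at most `4 / 3 * (n - m)`.
-/

set_option autoImplicit false

namespace Cfsg.Agent.H893

open Subgroup Equiv

open scoped Pointwise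

universe v

/-- The bound for permutation groups of degree `n` with `m` invariant classes. -/
def Bd (n : ℕ) : Prop := ∀ (Ω : Type v) [Finite Ω] (G : Subgroup (Perm Ω)) (m : ℕ)
  (F : Ω → Fin m), Function.Surjective F → (∀ g ∈ G, ∀ x, F (g x) = F x) → Nat.card Ω = n →
    3 * clen G + 4 * m ≤ 4 * n

theorem Bd.hom {n : ℕ} (h : Bd.{v} n) {K : Type*} [Group K] {Ω : Type v} [Finite Ω]
    (φ : K →* Perm Ω) {ι : Type*} [Finite ι] (F : Ω → ι) (hF : Function.Surjective F)
    (hinv : ∀ k x, F (φ k x) = F x) (hn : Nat.card Ω = n) :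
    3 * clen φ.range + 4 * Nat.card ι ≤ 4 * n := by
  refine h Ω φ.range (Nat.card ι) (fun x => Finite.equivFin ι (F x)) ?_ ?_ hn
  · exact (Finite.equivFin ι).surjective.comp hF
  · rintro _ ⟨k, rfl⟩ x
    rw [hinv]

section

variable {Ω : Type v}

/-- restriction to an invariant subset -/
def restr (K : Subgroup (Perm Ω)) (p : Ω → Prop) (hp : ∀ g ∈ K, ∀ x, p (g x) ↔ p x) :
    K →* Perm {x // p x} where
  toFun g := (g : Perm Ω).subtypePerm (hp g g.2)
  map_one' := by ext x; rfl
  map_mul' a b := by ext x; rfl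

theorem restr_apply (K : Subgroup (Perm Ω)) (p : Ω → Prop) (hp : ∀ g ∈ K, ∀ x, p (g x) ↔ p x)
    (g : K) (x : {x // p x}) : ((restr K p hp g x : {x // p x}) : Ω) = (g : Perm Ω) x := rfl

theorem mem_ker_restr (K : Subgroup (Perm Ω)) (p : Ω → Prop) (hp : ∀ g ∈ K, ∀ x, p (g x) ↔ p x)
    (g : K) : g ∈ (restr K p hp).ker ↔ ∀ x, p x → (g : Perm Ω) x = x := by
  rw [MonoidHom.mem_ker]
  constructor
  · intro h x hx
    rw [← restr_apply K p hp g ⟨x, hx⟩, h]
    rfl
  · intro h
    ext x
    exact h x.1 x.2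

theorem clen_restr [Finite Ω] (K : Subgroup (Perm Ω)) (p : Ω → Prop)
    (hp : ∀ g ∈ K, ∀ x, p (g x) ↔ p x) (hfix : ∀ g ∈ K, ∀ x, ¬ p x → g x = x) :
    clen (restr K p hp).range = clen K := by
  have hker : (restr K p hp).ker = ⊥ := by
    rw [eq_bot_iff]
    intro g hg
    rw [mem_ker_restr] at hg
    rw [mem_bot]
    apply Subtype.ext
    ext x
    by_cases hx : p x
    · exact hg x hx
    · exact hfix g g.2 x hx
  rw [clen_range (restr K p hp), hker, clen_of_bot, zero_add]

theorem Bd.sub [Finite Ω] {n : ℕ} (h : Bd.{v} n) (K : Subgroup (Perm Ω)) (p : Ω → Prop)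
    (hp : ∀ g ∈ K, ∀ x, p (g x) ↔ p x) (hcard : Nat.card {x // p x} = n) {ι : Type*} [Finite ι]
    (F : Ω → ι) (hF : ∀ i, ∃ x, p x ∧ F x = i) (hinv : ∀ g ∈ K, ∀ x, p x → F (g x) = F x) :
    3 * clen (restr K p hp).range + 4 * Nat.card ι ≤ 4 * n := by
  refine h.hom (restr K p hp) (fun x => F x.1) ?_ ?_ hcard
  · intro i
    obtain ⟨x, hx, rfl⟩ := hF i
    exact ⟨⟨x, hx⟩, rfl⟩
  · intro k x
    exact hinv k k.2 x.1 x.2

/-- The intransitive step. -/
theorem step_one [Finite Ω] {n : ℕ} (IH : ∀ n' < n, Bd.{v} n') (G : Subgroup (Perm Ω)) (m : ℕ)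
    (hm : 2 ≤ m) (F : Ω → Fin m) (hF : Function.Surjective F)
    (hinv : ∀ g ∈ G, ∀ x, F (g x) = F x) (hn : Nat.card Ω = n) : 3 * clen G + 4 * m ≤ 4 * n := by
  classical
  obtain ⟨m', rfl⟩ : ∃ m', m = m' + 1 := ⟨m - 1, by omega⟩
  let p : Ω → Prop := fun x => F x = Fin.last m'
  have hp : ∀ g ∈ G, ∀ x, p (g x) ↔ p x := by
    intro g hg x
    change F (g x) = _ ↔ F x = _
    rw [hinv g hg]
  -- the kernel on the last class
  let K : Subgroup (Perm Ω) := (restr G p hp).ker.map G.subtype
  have hKG : K ≤ G := by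
    rintro _ ⟨g, _, rfl⟩
    exact g.2
  have hKfix : ∀ g ∈ K, ∀ x, p x → g x = x := by
    rintro _ ⟨g, hg, rfl⟩ x hx
    exact (mem_ker_restr G p hp g).mp hg x hx
  have hp' : ∀ g ∈ K, ∀ x, ¬ p (g x) ↔ ¬ p x := fun g hg x => not_congr (hp g (hKG hg) x)
  have hcl : clen K = clen (restr G p hp).ker :=
    (clen_congr ((restr G p hp).ker.equivMapOfInjective G.subtype G.subtype_injective)).symm
  have hcard : Nat.card {x // p x} + Nat.card {x // ¬ p x} = n := by
    rw [← hn, ← Nat.card_sum]
    exact Nat.card_congr (Equiv.sumCompl p)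
  have h1 : 0 < Nat.card {x // p x} := by
    obtain ⟨x, hx⟩ := hF (Fin.last m')
    have : Nonempty {x // p x} := ⟨⟨x, hx⟩⟩
    exact Nat.card_pos
  have h2 : 0 < Nat.card {x // ¬ p x} := by
    obtain ⟨x, hx⟩ := hF 0
    have : Nonempty {x // ¬ p x} := ⟨⟨x, by
      change ¬ F x = Fin.last m'
      rw [hx]
      intro h
      have := congrArg Fin.val h
      simp at this
      omega⟩⟩
    exact Nat.card_pos
  have b1 := (IH _ (by omega : Nat.card {x // p x} < n)).sub G p hp rfl (ι := Unit)
    (fun _ => ()) (by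
      intro i
      obtain ⟨x, hx⟩ := hF (Fin.last m')
      exact ⟨x, hx, rfl⟩) (fun _ _ _ _ => rfl)
  have b2 := (IH _ (by omega : Nat.card {x // ¬ p x} < n)).sub K (fun x => ¬ p x) hp' rfl
    (ι := {i : Fin (m' + 1) // i ≠ Fin.last m'})
    (fun x => if h : F x ≠ Fin.last m' then ⟨F x, h⟩ else ⟨0, by
      intro h
      have := congrArg Fin.val h
      simp at this
      omega⟩) (by
      rintro ⟨i, hi⟩
      obtain ⟨x, rfl⟩ := hF i
      exact ⟨x, hi, by rw [dif_pos hi]⟩) (by
      intro g hg x _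
      have := hinv g (hKG hg) x
      simp only [this])
  rw [clen_restr K (fun x => ¬ p x) hp' (fun g hg x hx => hKfix g hg x (not_not.mp hx)), hcl] at b2
  have h3 : Nat.card {i : Fin (m' + 1) // i ≠ Fin.last m'} = m' := by
    rw [Nat.card_eq_fintype_card, Fintype.card_subtype_compl]
    simp
  rw [h3] at b2
  rw [Nat.card_unique] at b1
  rw [clen_range (restr G p hp)]
  omega

/-- restriction of a permutation representation to an invariant subset -/
def restrHom {K X : Type*} [Group K] (φ : K →* Perm X) (p : X → Prop)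
    (hp : ∀ g x, p (φ g x) ↔ p x) : K →* Perm {x // p x} where
  toFun g := (φ g).subtypePerm (hp g)
  map_one' := by ext x; simp
  map_mul' a b := by
    ext x
    change φ (a * b) x = φ a (φ b x)
    rw [map_mul]; rfl

theorem restrHom_apply {K X : Type*} [Group K] (φ : K →* Perm X) (p : X → Prop)
    (hp : ∀ g x, p (φ g x) ↔ p x) (g : K) (x : {x // p x}) :
    ((restrHom φ p hp g x : {x // p x}) : X) = φ g x := rfl

/-- The imprimitive step. -/
theorem step_two [Finite Ω] {n : ℕ} (IH : ∀ n' < n, Bd.{v} n') (G : Subgroup (Perm Ω))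
    (htr : MulAction.IsPretransitive G Ω) (hnp : ¬ MulAction.IsPreprimitive G Ω)
    (hn : Nat.card Ω = n) : 3 * clen G + 4 ≤ 4 * n := by
  classical
  -- a non-trivial block
  obtain ⟨B, hB, hB1, hB2⟩ : ∃ B : Set Ω, MulAction.IsBlock G B ∧ ¬ B.Subsingleton ∧
      B ≠ Set.univ := by
    by_contra hcon
    apply hnp
    refine { htr with isTrivialBlock_of_isBlock := fun {B} hB => ?_ }
    by_cases h : B.Subsingleton
    · exact Or.inl h
    · refine Or.inr (by_contra fun h' => hcon ⟨B, hB, h, h'⟩)
  obtain ⟨b₀, hb₀, b₁, hb₁, hne⟩ := Set.not_subsingleton_iff.mp hB1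
  have hex : ∀ x : Ω, ∃ g : G, x ∈ g • B := by
    intro x
    obtain ⟨g, hg⟩ := htr.exists_smul_eq b₀ x
    exact ⟨g, ⟨b₀, hb₀, hg⟩⟩
  choose c hc using hex
  let f : Ω → Set Ω := fun x => c x • B
  have hf : ∀ x (g : G), x ∈ g • B → f x = g • B := by
    intro x g hx
    exact hB.smul_eq_smul_of_nonempty ⟨x, hc x, hx⟩
  have hfmem : ∀ x, x ∈ f x := hc
  have hfg : ∀ (g : G) x, f ((g : Perm Ω) x) = g • f x := by
    intro g x
    have h1 : (g : Perm Ω) x ∈ (g * c x) • B := by
      rw [mul_smul]
      exact Set.smul_mem_smul_set (hc x)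
    rw [hf _ _ h1, mul_smul]
  let p : Set Ω → Prop := fun s => ∃ x, f x = s
  have hp : ∀ (g : G) s, p (MulAction.toPermHom G (Set Ω) g s) ↔ p s := by
    intro g s
    rw [MulAction.toPermHom_apply, MulAction.toPerm_apply]
    constructor
    · rintro ⟨x, hx⟩
      refine ⟨((g⁻¹ : G) : Perm Ω) x, ?_⟩
      rw [hfg, hx, inv_smul_smul]
    · rintro ⟨x, rfl⟩
      exact ⟨(g : Perm Ω) x, hfg g x⟩
  let φ := restrHom (MulAction.toPermHom G (Set Ω)) p hp
  have hker : ∀ g : G, g ∈ φ.ker → ∀ x, f ((g : Perm Ω) x) = f x := by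
    intro g hg x
    rw [hfg]
    rw [MonoidHom.mem_ker] at hg
    have h1 := restrHom_apply (MulAction.toPermHom G (Set Ω)) p hp g ⟨f x, x, rfl⟩
    rw [show restrHom (MulAction.toPermHom G (Set Ω)) p hp g = 1 from hg] at h1
    exact h1.symm
  set b := Nat.card {s // p s} with hb
  have hbn : b < n := by
    rw [← hn, hb]
    have hsurj : Function.Surjective (fun x : Ω => (⟨f x, x, rfl⟩ : {s // p s})) := by
      rintro ⟨s, x, rfl⟩
      exact ⟨x, rfl⟩
    refine lt_of_le_of_ne (Nat.card_le_card_of_surjective _ hsurj) fun h => hne ?_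
    have hbij := (Nat.bijective_iff_surjective_and_card _).mpr ⟨hsurj, h.symm⟩
    apply hbij.1
    apply Subtype.ext
    change f b₀ = f b₁
    rw [hf b₀ 1 (by rwa [one_smul]), hf b₁ 1 (by rwa [one_smul])]
  have hb2 : 2 ≤ b := by
    obtain ⟨z, hz⟩ : ∃ z, z ∉ B := by
      by_contra hcon
      push Not at hcon
      exact hB2 (Set.eq_univ_of_forall hcon)
    have : Nontrivial {s // p s} := by
      refine ⟨⟨⟨f b₀, b₀, rfl⟩, ⟨f z, z, rfl⟩, fun h => hz ?_⟩⟩
      have h1 : f b₀ = f z := congrArg Subtype.val h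
      have h2 := hfmem z
      rw [← h1, hf b₀ 1 (by rwa [one_smul]), one_smul] at h2
      exact h2
    exact Finite.one_lt_card
  have b1 := (IH b hbn).hom φ (ι := Unit) (fun _ => ()) (by
    intro i
    exact ⟨⟨f b₀, b₀, rfl⟩, rfl⟩) (fun _ _ => rfl) rfl
  let K : Subgroup (Perm Ω) := φ.ker.map G.subtype
  have hcl : clen K = clen φ.ker :=
    (clen_congr (φ.ker.equivMapOfInjective G.subtype G.subtype_injective)).symm
  have b2 := step_one IH K b hb2 (fun x => Finite.equivFin {s // p s} ⟨f x, x, rfl⟩) (by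
    refine (Finite.equivFin {s // p s}).surjective.comp ?_
    rintro ⟨s, x, rfl⟩
    exact ⟨x, rfl⟩) (by
    rintro _ ⟨g, hg, rfl⟩ x
    have h1 : f ((g : Perm Ω) x) = f x := hker g hg x
    simp only [Subgroup.coe_subtype, h1]) hn
  rw [clen_range φ, ← hcl]
  rw [Nat.card_unique] at b1
  omega

/-- The reduction to primitive groups. -/
theorem bd_of_prim (hprim : ∀ n : ℕ, (∀ n' < n, Bd.{v} n') → ∀ (Ω : Type v) [Finite Ω]
    (G : Subgroup (Perm Ω)), MulAction.IsPreprimitive G Ω → Nat.card Ω = n → 0 < n →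
    3 * clen G + 4 ≤ 4 * n) : ∀ n, Bd.{v} n := by
  intro n
  induction n using Nat.strong_induction_on with
  | _ n IH =>
    intro Ω _ G m F hF hinv hn
    rcases Nat.lt_or_ge m 2 with hm | hm
    · rcases Nat.eq_zero_or_pos n with h0 | h0
      · -- the empty set
        have hE : IsEmpty Ω := by
          rw [← Finite.card_eq_zero_iff, hn, h0]
        have hm0 : m = 0 := by
          by_contra hm0
          obtain ⟨x, _⟩ := hF ⟨0, by omega⟩
          exact hE.false x
        have : Subsingleton G := ⟨fun a b => Subtype.ext (Equiv.ext fun x => (hE.false x).elim)⟩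
        rw [clen_of_subsingleton]
        omega
      · have key : 3 * clen G + 4 ≤ 4 * n := by
          by_cases htr : MulAction.IsPretransitive G Ω
          · by_cases hp : MulAction.IsPreprimitive G Ω
            · exact hprim n IH Ω G hp hn h0
            · exact step_two IH G htr hp hn
          · -- intransitive
            classical
            obtain ⟨x, y, hxy⟩ : ∃ x y : Ω, ∀ g : G, (g : Perm Ω) x ≠ y := by
              by_contra hcon
              push Not at hcon
              exact htr ⟨fun x y => hcon x y⟩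
            have h2 := step_one IH G 2 le_rfl
              (fun z => if ∃ g : G, (g : Perm Ω) x = z then (0 : Fin 2) else 1) (by
                intro i
                fin_cases i
                · exact ⟨x, if_pos ⟨1, rfl⟩⟩
                · refine ⟨y, if_neg ?_⟩
                  rintro ⟨g, hg⟩
                  exact hxy g hg) (by
                intro g hg z
                have : (∃ k : G, (k : Perm Ω) x = g z) ↔ ∃ k : G, (k : Perm Ω) x = z := by
                  constructor
                  · rintro ⟨k, hk⟩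
                    refine ⟨⟨g, hg⟩⁻¹ * k, ?_⟩
                    change g⁻¹ ((k : Perm Ω) x) = z
                    rw [hk]
                    simp
                  · rintro ⟨k, rfl⟩
                    exact ⟨⟨g, hg⟩ * k, rfl⟩
                simp only [this]) hn
            omega
        omega
    · exact step_one IH G m hm F hF hinv hn

end

end Cfsg.Agent.H893
end

-- part: H893/Prim
section
/-!
# The composition length of a primitive group of degree `n` is at most `4 / 3 * (n - 1)`
-/

set_option autoImplicit false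

namespace Cfsg.Agent.H893

open Subgroup Equiv ArithmeticFunction

universe v

/-- universe independent form of `Bd.hom` -/
theorem Bd.homU {n : ℕ} (h : Bd.{v} n) {K : Type*} [Group K] {Ω : Type*} [Finite Ω]
    (φ : K →* Perm Ω) {ι : Type*} [Finite ι] (F : Ω → ι) (hF : Function.Surjective F)
    (hinv : ∀ k x, F (φ k x) = F x) (hn : Nat.card Ω = n) :
    3 * clen φ.range + 4 * Nat.card ι ≤ 4 * n := by
  let ε : Ω ≃ ULift.{v} (Fin n) := (Finite.equivFinOfCardEq hn).trans Equiv.ulift.symm
  let ψ : Perm Ω ≃* Perm (ULift.{v} (Fin n)) := ε.permCongrHom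
  have h1 := h.hom (ψ.toMonoidHom.comp φ) (fun x => F (ε.symm x)) (hF.comp ε.symm.surjective) (by
    intro k x
    have : ε.symm ((ψ.toMonoidHom.comp φ) k x) = φ k (ε.symm x) := by
      change ε.symm (ε (φ k (ε.symm x))) = _
      rw [Equiv.symm_apply_apply]
    rw [this, hinv]) (by simp)
  have h2 : clen (ψ.toMonoidHom.comp φ).range = clen φ.range := by
    have e : φ.range.map ψ.toMonoidHom = (ψ.toMonoidHom.comp φ).range := by
      rw [MonoidHom.map_range]
    rw [← clen_congr (MulEquiv.subgroupCongr e)]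
    exact (clen_congr (φ.range.equivMapOfInjective ψ.toMonoidHom ψ.injective)).symm
  rw [h2] at h1
  exact h1

theorem inv_bound {Ω : Type v} [Finite Ω] {n : ℕ} (hB : Bd.{v} (n - 1)) (hn : Nat.card Ω = n)
    (a : Ω) (K₀ : Subgroup (Perm Ω)) (hK₀ : ∀ h ∈ K₀, h a = a) {X V : Type*} [Finite V]
    (Φ : X → Ω) (cl : X → V) (v₀ : V) (hV : ∃ v, v ≠ v₀) (hsurj : Function.Surjective cl)
    (h0 : ∀ x, Φ x = a → cl x = v₀) (hwd : ∀ x y, Φ x = Φ y → cl x = cl y)
    (heq : ∀ h ∈ K₀, ∀ x, ∃ y, Φ y = h (Φ x) ∧ cl y = cl x) :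
    3 * clen K₀ + 4 * (Nat.card V - 1) ≤ 4 * (n - 1) := by
  classical
  obtain ⟨v₁, hv₁⟩ := hV
  let F : Ω → {v // v ≠ v₀} := fun z =>
    if h : ∃ x, Φ x = z ∧ cl x ≠ v₀ then ⟨cl h.choose, h.choose_spec.2⟩ else ⟨v₁, hv₁⟩
  have hFx : ∀ x, (hx : cl x ≠ v₀) → F (Φ x) = ⟨cl x, hx⟩ := by
    intro x hx
    have h : ∃ y, Φ y = Φ x ∧ cl y ≠ v₀ := ⟨x, rfl, hx⟩
    change (if h : ∃ y, Φ y = Φ x ∧ cl y ≠ v₀ then _ else _) = _
    rw [dif_pos h]
    exact Subtype.ext (hwd _ _ h.choose_spec.1)
  have hFn : ∀ z, (¬ ∃ x, Φ x = z ∧ cl x ≠ v₀) → F z = ⟨v₁, hv₁⟩ := fun z h => dif_neg h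
  have hp : ∀ g ∈ K₀, ∀ x, (g x ≠ a) ↔ (x ≠ a) := by
    intro g hg x
    apply not_congr
    constructor
    · intro h
      apply g.injective
      rw [h, hK₀ g hg]
    · rintro rfl
      exact hK₀ g hg
  have hcard : Nat.card {x : Ω // x ≠ a} = n - 1 := by
    have : Fintype Ω := Fintype.ofFinite Ω
    rw [Nat.card_eq_fintype_card, Fintype.card_subtype_compl, Fintype.card_subtype_eq, ← hn,
      Nat.card_eq_fintype_card]
  have h1 := hB.sub K₀ (fun x => x ≠ a) hp hcard F (by
    rintro ⟨v, hv⟩
    obtain ⟨x, rfl⟩ := hsurj v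
    exact ⟨Φ x, fun h => hv (h0 x h), hFx x hv⟩) (by
    intro g hg z _
    by_cases h : ∃ x, Φ x = z ∧ cl x ≠ v₀
    · obtain ⟨x, rfl, hx⟩ := h
      obtain ⟨y, hy, hyx⟩ := heq g hg x
      rw [← hy, hFx x hx, hFx y (by rw [hyx]; exact hx)]
      exact Subtype.ext hyx
    · have h' : ¬ ∃ x, Φ x = g z ∧ cl x ≠ v₀ := by
        rintro ⟨x, hx, hxv⟩
        apply h
        obtain ⟨y, hy, hyx⟩ := heq g⁻¹ (K₀.inv_mem hg) x
        refine ⟨y, ?_, by rw [hyx]; exact hxv⟩
        rw [hy, hx]
        simp
      rw [hFn _ h, hFn _ h'])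
  have h2 : Nat.card {v // v ≠ v₀} = Nat.card V - 1 := by
    have : Fintype V := Fintype.ofFinite V
    rw [Nat.card_eq_fintype_card, Fintype.card_subtype_compl, Fintype.card_subtype_eq,
      Nat.card_eq_fintype_card]
  have h3 : clen (restr K₀ (fun x => x ≠ a) hp).range = clen K₀ := by
    apply clen_restr
    intro g hg x hx
    rw [not_not] at hx
    rw [hx]
    exact hK₀ g hg
  rwa [h2, h3] at h1

/-! ### Numbers -/

theorem num_two (m : ℕ) : 7 * m ≤ 4 * 2 ^ m := by
  induction m with
  | zero => norm_num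
  | succ m ih =>
    rcases Nat.lt_or_ge m 2 with h | h
    · interval_cases m <;> norm_num
    · have : 2 ^ 2 ≤ 2 ^ m := Nat.pow_le_pow_right (by norm_num) h
      rw [pow_succ]
      omega

theorem num_three (m u : ℕ) (h : m ≤ 2 * u) : 7 * m ≤ 4 * 3 ^ u + 3 := by
  have : 14 * u ≤ 4 * 3 ^ u + 3 := by
    clear h
    induction u with
    | zero => norm_num
    | succ u ih =>
      rcases Nat.lt_or_ge u 1 with h | h
      · interval_cases u; norm_num
      · have : 3 ^ 1 ≤ 3 ^ u := Nat.pow_le_pow_right (by norm_num) h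
        rw [pow_succ]
        omega
  omega

theorem lt_three_pow (m u : ℕ) (h : m ≤ 2 * u) : m < 3 ^ u := by
  have : 2 * u < 3 ^ u := by
    clear h
    induction u with
    | zero => norm_num
    | succ u ih =>
      rw [pow_succ]
      have : 1 ≤ 3 ^ u := Nat.one_le_pow _ _ (by norm_num)
      omega
  omega

/-! ### The abelian case -/

theorem prod_le (p d : ℕ) : ∏ i : Fin d, (p ^ d - p ^ (i : ℕ)) ≤ p ^ (d * d) := by
  calc ∏ i : Fin d, (p ^ d - p ^ (i : ℕ)) ≤ ∏ _i : Fin d, p ^ d :=
        Finset.prod_le_prod' fun i _ => Nat.sub_le _ _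
    _ = p ^ (d * d) := by simp [← pow_mul]

theorem prod_lt (p d : ℕ) (hp : 2 ≤ p) (hd : 0 < d) :
    ∏ i : Fin d, (p ^ d - p ^ (i : ℕ)) < p ^ (d * d) := by
  calc ∏ i : Fin d, (p ^ d - p ^ (i : ℕ)) < ∏ _i : Fin d, p ^ d := by
        apply Finset.prod_lt_prod_of_nonempty
        · intro i _
          have h1 : p ^ (i : ℕ) < p ^ d := Nat.pow_lt_pow_right (by omega) i.2
          omega
        · intro i _
          have h1 : 0 < p ^ (i : ℕ) := pow_pos (by omega) _
          have h2 : 0 < p ^ d := pow_pos (by omega) _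
          omega
        · exact ⟨⟨0, hd⟩, Finset.mem_univ _⟩
    _ = p ^ (d * d) := by simp [← pow_mul]

theorem num_abelian (p d c M : ℕ) (hp : p.Prime) (hd : 0 < d)
    (hM : M ∣ ∏ i : Fin d, (p ^ d - p ^ (i : ℕ))) (hc : c ≤ cardFactors M) :
    3 * (d + c) + 4 ≤ 4 * p ^ d := by
  have hp2 := hp.two_le
  have hprod : ∏ i : Fin d, (p ^ d - p ^ (i : ℕ)) ≠ 0 := by
    rw [Finset.prod_ne_zero_iff]
    intro i _
    have : p ^ (i : ℕ) < p ^ d := Nat.pow_lt_pow_right (by omega) i.2
    omega
  have hM0 : M ≠ 0 := ne_zero_of_dvd_ne_zero hprod hM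
  have h2c : 2 ^ c ≤ M := (Nat.pow_le_pow_right (by norm_num) hc).trans
    (two_pow_cardFactors_le M hM0)
  have hMle : M ≤ ∏ i : Fin d, (p ^ d - p ^ (i : ℕ)) := Nat.le_of_dvd (Nat.pos_of_ne_zero hprod) hM
  rcases Nat.lt_or_ge d 2 with hd1 | hd2
  · -- `d = 1`
    obtain rfl : d = 1 := by omega
    simp only [Fin.prod_univ_one, Fin.val_zero, pow_zero, pow_one] at hMle ⊢
    have : c < 2 ^ c := Nat.lt_two_pow_self
    omega
  · rcases Nat.lt_or_ge p 3 with hp3 | hp3
    · obtain rfl : p = 2 := by omega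
      rcases Nat.lt_or_ge d 4 with hd4 | hd4
      · interval_cases d
        · -- `d = 2`
          have h6 : M ∣ 6 := by
            simpa [Fin.prod_univ_succ] using hM
          have h7 : cardFactors M ≤ cardFactors 6 := cardFactors_le_of_dvd h6 (by norm_num)
          have h8 : cardFactors 6 = 2 := by
            rw [show (6 : ℕ) = 2 * 3 by norm_num, cardFactors_mul (by norm_num) (by norm_num),
              cardFactors_apply_prime Nat.prime_two, cardFactors_apply_prime Nat.prime_three]
          omega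
        · -- `d = 3`
          have h6 : M ∣ 168 := by
            simpa [Fin.prod_univ_succ] using hM
          have h7 : cardFactors M ≤ cardFactors 168 := cardFactors_le_of_dvd h6 (by norm_num)
          have h8 : cardFactors 168 = 5 := by
            rw [show (168 : ℕ) = 2 ^ 3 * (3 * 7) by norm_num,
              cardFactors_mul (by norm_num) (by norm_num),
              cardFactors_mul (by norm_num) (by norm_num),
              cardFactors_apply_prime_pow Nat.prime_two, cardFactors_apply_prime Nat.prime_three,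
              cardFactors_apply_prime (by norm_num)]
          omega
      · -- `d ≥ 4`
        have h1 := prod_lt 2 d le_rfl hd
        have h3 : c < d * d := (Nat.pow_lt_pow_iff_right (by norm_num : 1 < 2)).mp
          ((h2c.trans hMle).trans_lt h1)
        have h4 : 3 * (d + d * d) + 1 ≤ 4 * 2 ^ d := by
          clear h3 h1 hMle h2c hM0 hprod hc hM
          induction d, hd4 using Nat.le_induction with
          | base => norm_num
          | succ d hd4 ih =>
            have := ih (by omega) (by omega)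
            rw [pow_succ]
            nlinarith
        omega
    · -- `p ≥ 3`, `d ≥ 2`
      have h1 : p ≤ 2 ^ (p - 1) := by
        have : p - 1 < 2 ^ (p - 1) := Nat.lt_two_pow_self
        omega
      have h3 : c ≤ (p - 1) * (d * d) := by
        apply (Nat.pow_le_pow_iff_right (by norm_num : 1 < 2)).mp
        calc 2 ^ c ≤ p ^ (d * d) := (h2c.trans hMle).trans (prod_le p d)
          _ ≤ (2 ^ (p - 1)) ^ (d * d) := Nat.pow_le_pow_left h1 _
          _ = 2 ^ ((p - 1) * (d * d)) := by rw [← pow_mul]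
      have h4 : 3 * (d + (p - 1) * (d * d)) + 4 ≤ 4 * p ^ d := by
        obtain ⟨q, rfl⟩ : ∃ q, p = q + 1 := ⟨p - 1, by omega⟩
        clear h3 h1 hMle h2c hM0 hprod hc hM
        rw [Nat.add_sub_cancel]
        induction d, hd2 using Nat.le_induction with
        | base => nlinarith
        | succ d hd4 ih =>
          have h5 := ih (by omega)
          rw [pow_succ]
          have h6 : 4 * (q + 1) ^ d * 3 ≤ 4 * ((q + 1) ^ d * (q + 1)) := by
            nlinarith [pow_pos (Nat.succ_pos q) d]
          have h7 : 2 * d + 1 ≤ 2 * (d * d) := by nlinarith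
          have h8 : q * (2 * d + 1) ≤ q * (2 * (d * d)) := Nat.mul_le_mul_left q h7
          have h9 : q * ((d + 1) * (d + 1)) = q * (d * d) + q * (2 * d + 1) := by ring
          have h10 : q * (2 * (d * d)) = 2 * (q * (d * d)) := by ring
          rw [h9]
          omega
      omega

end Cfsg.Agent.H893
end

-- part: H893/PrimMain
section
/-!
# The composition length of a primitive group of degree `n` is at most `4 / 3 * (n - 1)`
-/

set_option autoImplicit false

namespace Cfsg.Agent.H893

open Subgroup Equiv ArithmeticFunction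

universe v

theorem card_mulAut {V : Type*} [Group V] {r : ℕ} [Fact r.Prime] (hc : ∀ a b : V, a * b = b * a)
    (hpow : ∀ a : V, a ^ r = 1) {k : ℕ} (hk : Nat.card V = r ^ k) :
    Nat.card (MulAut V) = ∏ i : Fin k, (r ^ k - r ^ (i : ℕ)) := by
  let _ : CommGroup V := { (inferInstance : Group V) with mul_comm := hc }
  obtain ⟨e⟩ := Lib.ElemAbGL.mulAut_equiv_GL (V := V) r k hpow hk
  rw [Nat.card_congr e.toEquiv, Matrix.card_GL_field]
  simp [ZMod.card]

/-- facts about a minimal normal subgroup of a primitive group -/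
theorem prim_facts {Ω : Type*} [Finite Ω] (G : Subgroup (Perm Ω))
    (hG : MulAction.IsPreprimitive G Ω) (N : Subgroup G) [N.Normal] (hN : N ≠ ⊥) :
    MulAction.IsPretransitive N Ω ∧
    (∀ (a : Ω) (g : G), ∃ n ∈ N, g * n ∈ MulAction.stabilizer G a) ∧
    (∀ a : Ω, ¬ N ≤ MulAction.stabilizer G a) := by
  have hfix : MulAction.fixedPoints N Ω ≠ Set.univ := by
    intro h
    apply hN
    rw [eq_bot_iff]
    intro x hx
    rw [Subgroup.mem_bot]
    apply Subtype.ext
    apply Equiv.ext
    intro y
    have hy : y ∈ MulAction.fixedPoints N Ω := by rw [h]; exact Set.mem_univ y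
    exact hy ⟨x, hx⟩
  have htr : MulAction.IsPretransitive N Ω :=
    MulAction.IsQuasiPreprimitive.isPretransitive_of_normal hfix
  refine ⟨htr, fun a g => ?_, fun a h => ?_⟩
  · obtain ⟨n, hn⟩ := MulAction.exists_smul_eq N a (g⁻¹ • a)
    refine ⟨n, n.2, ?_⟩
    rw [MulAction.mem_stabilizer_iff, mul_smul]
    change g • (n • a) = a
    rw [hn, smul_inv_smul]
  · apply hfix
    rw [Set.eq_univ_iff_forall]
    intro y n
    obtain ⟨n', rfl⟩ := MulAction.exists_smul_eq N a y
    have h1 : (n'⁻¹ * n * n') • a = a := h (n'⁻¹ * n * n' : N).2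
    rw [mul_smul, mul_smul, inv_smul_eq_iff] at h1
    exact h1

theorem exists_min_normal {G : Type*} [Group G] [Finite G] [Nontrivial G] :
    ∃ N : Subgroup G, N.Normal ∧ N ≠ ⊥ ∧
      ∀ M : Subgroup G, M.Normal → M ≤ N → M = ⊥ ∨ M = N := by
  obtain ⟨N, -, h1, h2, h3⟩ := Cfsg.Agent.Lib.MinNormal.exists_minimal_normal_le (⊤ : Subgroup G)
    top_ne_bot
  refine ⟨N, Subgroup.normalizer_eq_top_iff.mp (top_le_iff.mp h2), h1, fun M hM hMN => ?_⟩
  exact h3 M hMN (by rw [Subgroup.normalizer_eq_top_iff.mpr hM])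

/-- The abelian case. -/
theorem prim_abelian {Ω : Type*} [Finite Ω] (G : Subgroup (Perm Ω))
    (hG : MulAction.IsPreprimitive G Ω) (N : Subgroup G) [N.Normal] (hN : N ≠ ⊥)
    (hmin : ∀ M : Subgroup G, M.Normal → M ≤ N → M = ⊥ ∨ M = N)
    (hab : ∀ x ∈ N, ∀ y ∈ N, Commute x y) (a : Ω) :
    ∃ p d : ℕ, p.Prime ∧ 0 < d ∧ Nat.card Ω = p ^ d ∧ Nat.card N = p ^ d ∧
      (∀ x ∈ N, x ^ p = 1) ∧ (MulAut.conjNormal : G →* MulAut N).ker = N ∧ 
      Nat.card (MulAut N) = ∏ i : Fin d, (p ^ d - p ^ (i : ℕ)) := by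
  have hab' : IsMulCommutative N := ⟨⟨fun x y => Subtype.ext (hab x x.2 y y.2)⟩⟩
  obtain ⟨htr, -, -⟩ := prim_facts G hG N hN
  obtain ⟨hcent, hst, ⟨p, hp, hexp⟩, -⟩ := Cfsg.Agent.S0703.result G N hN hmin hab' htr
  have : Fact p.Prime := ⟨hp⟩
  have hcard : Nat.card N = Nat.card Ω := by
    rw [← MulAction.index_stabilizer_of_transitive N a, hst a, Subgroup.index_bot]
  have hpg : IsPGroup p N := fun x => ⟨1, by
    rw [pow_one]
    exact Subtype.ext (hexp x x.2)⟩
  obtain ⟨d, hd⟩ := IsPGroup.iff_card.mp hpg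
  have hd0 : 0 < d := by
    rcases Nat.eq_zero_or_pos d with h | h
    · exfalso
      apply hN
      rw [h, pow_zero] at hd
      exact Subgroup.card_eq_one.mp hd
    · exact h
  refine ⟨p, d, hp, hd0, by rw [← hcard, hd], hd, hexp, ?_, ?_⟩
  · apply le_antisymm
    · intro g hg
      have h1 : (g : Perm Ω) ∈ N.map G.subtype := by
        rw [← hcent, Subgroup.mem_centralizer_iff]
        rintro _ ⟨n, hn, rfl⟩
        rw [MonoidHom.mem_ker] at hg
        have h2 := congrArg (fun φ : MulAut N => ((φ ⟨n, hn⟩ : N) : G)) hg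
        simp only [MulAut.conjNormal_apply, MulAut.one_apply] at h2
        have h3 : g * n = n * g := by
          calc g * n = (g * n * g⁻¹) * g := by group
            _ = n * g := by rw [h2]
        have h4 := congrArg (fun z : G => (z : Perm Ω)) h3
        simpa using h4.symm
      obtain ⟨n, hn, hng⟩ := h1
      have : n = g := Subtype.ext hng
      exact this ▸ hn
    · intro g hg
      rw [MonoidHom.mem_ker]
      ext x
      simp only [MulAut.conjNormal_apply, MulAut.one_apply]
      rw [(hab g hg x x.2).eq]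
      simp
  · exact card_mulAut (V := N) (fun x y => Subtype.ext (hab x x.2 y y.2))
      (fun x => Subtype.ext (hexp x x.2)) hd

theorem clen_pi_le {m : ℕ} {G : Type*} [Group G] [Finite G] (T : Fin m → Subgroup G)
    (hT : ∀ i, IsSimpleGroup (T i)) : clen (∀ i, T i) ≤ m := by
  have h1 := clen_le_sum (G := ∀ i, T i) Finset.univ (fun i => Pi.evalMonoidHom (fun i => T i) i)
    (fun g hg => funext fun i => hg i (Finset.mem_univ i))
  refine h1.trans ?_
  calc ∑ i, clen (Pi.evalMonoidHom (fun i => T i) i).range ≤ ∑ _i : Fin m, 1 := by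
        apply Finset.sum_le_sum
        intro i _
        classical
        have h2 : (Pi.evalMonoidHom (fun i => T i) i).range = ⊤ := by
          rw [MonoidHom.range_eq_top]
          exact Function.surjective_eval i
        rw [h2, clen_of_top]
        have := hT i
        rw [clen_of_simple]
    _ = m := by simp

theorem clen_second_iso {G : Type*} [Group G] [Finite G] (N K H : Subgroup G) [N.Normal]
    (hNK : N ≤ K) (hKH : ∀ k ∈ K, ∃ n ∈ N, k * n ∈ H) :
    clen K + clen (N ⊓ H : Subgroup G) = clen N + clen (K ⊓ H : Subgroup G) := by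
  have h1 := clen_subgroup N K hNK
  let f : (K ⊓ H : Subgroup G) →* K ⧸ N.subgroupOf K :=
    (QuotientGroup.mk' (N.subgroupOf K)).comp (Subgroup.inclusion inf_le_left)
  have hf : Function.Surjective f := by
    intro x
    obtain ⟨k, rfl⟩ := QuotientGroup.mk'_surjective _ x
    obtain ⟨n, hn, hkn⟩ := hKH k k.2
    refine ⟨⟨k * n, K.mul_mem k.2 (hNK hn), hkn⟩, ?_⟩
    change QuotientGroup.mk' (N.subgroupOf K) _ = _
    rw [QuotientGroup.mk'_eq_mk']
    refine ⟨⟨n⁻¹, hNK (N.inv_mem hn)⟩, ?_, ?_⟩
    · exact N.inv_mem hn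
    · apply Subtype.ext
      change (k : G) * n * n⁻¹ = k
      group
  have h2 := clen_of_surjective f hf
  have e : f.ker ≃* (N ⊓ H : Subgroup G) :=
    { toFun := fun x => ⟨x.1.1, by
        have := x.2
        rw [MonoidHom.mem_ker] at this
        have h3 : (⟨x.1.1, x.1.2.1⟩ : K) ∈ N.subgroupOf K :=
          (QuotientGroup.eq_one_iff _).mp this
        exact h3, x.1.2.2⟩
      invFun := fun x => ⟨⟨x.1, hNK x.2.1, x.2.2⟩, by
        rw [MonoidHom.mem_ker]
        exact (QuotientGroup.eq_one_iff _).mpr x.2.1⟩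
      left_inv := fun x => rfl
      right_inv := fun x => rfl
      map_mul' := fun x y => rfl }
  rw [clen_congr e] at h2
  omega

/-- the numbers of invariants for the intersection of the kernel on the factors with a point
stabiliser -/
theorem inv_factors {Ω : Type v} [Finite Ω] {n : ℕ} (hB : Bd.{v} (n - 1)) (hn : Nat.card Ω = n)
    (G : Subgroup (Perm Ω)) (N : Subgroup G) [N.Normal] (a : Ω) {m : ℕ} {T : Fin m → Subgroup G}
    {e : N ≃* (∀ i, T i)} (h : Fac N m T e) (I : Set (Fin m)) (hI : I.Nonempty) (q : ℕ)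
    (hq : 2 ≤ q) (cls : ∀ i, T i → Fin q) (hsurj : ∀ i, Function.Surjective (cls i))
    (hq0 : ∀ i (t : T i), (t : G) ∈ MulAction.stabilizer G a → cls i t = ⟨0, by omega⟩)
    (hcos : ∀ i, i ∈ I → ∀ (t s : T i), ((t⁻¹ * s : T i) : G) ∈ MulAction.stabilizer G a →
      cls i t = cls i s)
    (hconj : ∀ i (k : G) (t : T i) (_ : k ∈ MulAction.stabilizer G a)
      (ht : k * (t : G) * k⁻¹ ∈ T i), cls i ⟨k * (t : G) * k⁻¹, ht⟩ = cls i t)
    (hU : ∀ n : N, (∀ i, i ∉ I → e n i = 1) → (n : G) ∈ MulAction.stabilizer G a →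
      ∀ i, ((e n i : T i) : G) ∈ MulAction.stabilizer G a) :
    3 * clen (h.perm.ker ⊓ MulAction.stabilizer G a : Subgroup G) + 4 * (q ^ Nat.card I - 1) ≤
      4 * (n - 1) := by
  classical
  set H := MulAction.stabilizer G a with hH
  let K₀ : Subgroup (Perm Ω) := (h.perm.ker ⊓ H : Subgroup G).map G.subtype
  have hcl : clen K₀ = clen (h.perm.ker ⊓ H : Subgroup G) :=
    (clen_congr ((h.perm.ker ⊓ H : Subgroup G).equivMapOfInjective G.subtype
      G.subtype_injective)).symm
  have hact : ∀ g : G, g ∈ H ↔ (g : Perm Ω) a = a := fun g => MulAction.mem_stabilizer_iff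
  let X := {x : (∀ i, T i) // ∀ i, i ∉ I → x i = 1}
  let Φ : X → Ω := fun x => (((e.symm x.1 : N) : G) : Perm Ω) a
  let cl : X → (I → Fin q) := fun x i => cls i (x.1 i)
  -- equality of points
  have hΦ : ∀ x y : X, Φ x = Φ y ↔ ((e.symm (x.1⁻¹ * y.1) : N) : G) ∈ H := by
    intro x y
    rw [hact, map_mul, map_inv, Subgroup.coe_mul, Subgroup.coe_inv, Subgroup.coe_mul,
      Subgroup.coe_inv, Perm.mul_apply, Perm.inv_eq_iff_eq]
    exact eq_comm
  have hb := inv_bound hB hn a K₀ (by
    rintro _ ⟨g, hg, rfl⟩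
    exact (hact g).mp hg.2) Φ cl (fun _ => ⟨0, by omega⟩) (by
    obtain ⟨i, hi⟩ := hI
    refine ⟨fun _ => ⟨1, by omega⟩, fun h => ?_⟩
    have := congrArg Fin.val (congrFun h ⟨i, hi⟩)
    simp at this) (by
    intro v
    choose t ht using fun i : I => hsurj i (v i)
    refine ⟨⟨fun i => if hi : i ∈ I then t ⟨i, hi⟩ else 1, fun i hi => dif_neg hi⟩, ?_⟩
    funext i
    change cls i (if hi : (i : Fin m) ∈ I then t ⟨i, hi⟩ else 1) = v i
    rw [dif_pos i.2]
    exact ht i) (by
    intro x hx
    have h1 : ((e.symm x.1 : N) : G) ∈ H := (hact _).mpr hx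
    have h2 := hU (e.symm x.1) (fun i hi => by
      rw [MulEquiv.apply_symm_apply]; exact x.2 i hi) h1
    funext i
    apply hq0
    have := h2 i
    rwa [MulEquiv.apply_symm_apply] at this) (by
    intro x y hxy
    rw [hΦ] at hxy
    have h2 := hU (e.symm (x.1⁻¹ * y.1)) (fun i hi => by
      rw [MulEquiv.apply_symm_apply, Pi.mul_apply, Pi.inv_apply, x.2 i hi, y.2 i hi]; simp) hxy
    funext i
    apply hcos i i.2
    have := h2 i
    rwa [MulEquiv.apply_symm_apply] at this) (by
    rintro _ ⟨k, hk, rfl⟩ x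
    have hk1 := (h.mem_ker_perm k).mp hk.1
    refine ⟨⟨e (Fac.cj N k (e.symm x.1)), fun i hi => ?_⟩, ?_, ?_⟩
    · apply Subtype.ext
      rw [h.conj_coord hk1, MulEquiv.apply_symm_apply, x.2 i hi]
      simp
    · change (((e.symm (e (Fac.cj N k (e.symm x.1))) : N) : G) : Perm Ω) a =
        (k : Perm Ω) ((((e.symm x.1 : N) : G) : Perm Ω) a)
      rw [MulEquiv.symm_apply_apply]
      change ((k * ((e.symm x.1 : N) : G) * k⁻¹ : G) : Perm Ω) a = _
      have h3 : ((k⁻¹ : G) : Perm Ω) a = a := (hact _).mp (H.inv_mem hk.2)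
      rw [Subgroup.coe_mul, Perm.mul_apply, h3, Subgroup.coe_mul, Perm.mul_apply]
    · funext i
      change cls i (e (Fac.cj N k (e.symm x.1)) i) = cls i (x.1 i)
      have h4 := h.conj_coord hk1 (e.symm x.1) i
      rw [MulEquiv.apply_symm_apply] at h4
      have h5 : k * (x.1 i : G) * k⁻¹ ∈ T i := by rw [← h4]; exact (e _ _).2
      rw [← hconj i k (x.1 i) hk.2 h5]
      congr 1
      exact Subtype.ext h4)
  rw [hcl] at hb
  have hV : Nat.card (I → Fin q) = q ^ Nat.card I := by
    rw [Nat.card_fun]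
    simp
  rwa [hV] at hb

/-- The primitive case. -/
theorem prim_bd (n : ℕ) (IH : ∀ n' < n, Bd.{v} n') (Ω : Type v) [Finite Ω] (G : Subgroup (Perm Ω))
    (hG : MulAction.IsPreprimitive G Ω) (hn : Nat.card Ω = n) (h0 : 0 < n) :
    3 * clen G + 4 ≤ 4 * n := by
  classical
  by_cases hnt : Subsingleton G
  · rw [clen_of_subsingleton]
    omega
  rw [not_subsingleton_iff_nontrivial] at hnt
  obtain ⟨N, hNn, hN, hmin⟩ := exists_min_normal (G := G)
  have hΩ : Nonempty Ω := by
    by_contra h
    rw [not_nonempty_iff] at h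
    rw [Nat.card_of_isEmpty] at hn
    omega
  obtain ⟨a⟩ := hΩ
  by_cases hab : ∀ x ∈ N, ∀ y ∈ N, Commute x y
  · -- abelian
    obtain ⟨p, d, hp, hd, hnd, hNd, -, hker, hcard⟩ := prim_abelian G hG N hN hmin hab a
    have h1 := clen_range (MulAut.conjNormal : G →* MulAut N)
    rw [hker] at h1
    have h2 : clen N ≤ d := by
      have := clen_le_cardFactors (G := N)
      rwa [hNd, cardFactors_apply_prime_pow hp] at this
    have h3 := clen_le_cardFactors (G := (MulAut.conjNormal : G →* MulAut N).range)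
    have h4 := num_abelian p d _ (Nat.card (MulAut.conjNormal : G →* MulAut N).range) hp hd
      (by rw [← hcard]; exact Subgroup.card_subgroup_dvd_card _) h3
    rw [← hnd, hn] at h4
    omega
  · -- non-abelian
    obtain ⟨m, T, e, h⟩ := exists_fac N hmin hab
    obtain ⟨htr, hKN, hNK⟩ := prim_facts G hG N hN
    set H := MulAction.stabilizer G a with hH
    have hsc := h.scott H (hKN a) (hNK a)
      (fun X hX hKX hinv => Cfsg.Agent.S0722.result G N hN hmin a X hX hKX hinv)
    have hm := h.pos
    -- additivity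
    have c1 := clen_range h.perm
    have c2 := clen_second_iso N h.perm.ker H h.le_ker_perm (fun k _ => hKN a k)
    have c3 : clen N ≤ m := by
      rw [clen_congr e]
      exact clen_pi_le T h.simple
    -- transitivity of `H` on the factors
    have htrans : ∀ i j, ∃ k ∈ H, T j = (T i).map (MulAut.conj k).toMonoidHom := by
      intro i j
      obtain ⟨g, hg⟩ := h.trans i j
      obtain ⟨n, hn, hgn⟩ := hKN a g
      refine ⟨g * n, hgn, ?_⟩
      have h1 : (T i).map (MulAut.conj n).toMonoidHom = T i :=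
        Subgroup.mem_normalizer_iff_map_conj_eq.mp (h.norm i hn)
      rw [← Cfsg.Agent.Lib.MinNormal.map_conj_map_conj, h1, hg]
    rcases hsc with hA | ⟨c, hcc, hc2, hc3, hc4⟩
    · -- case A
      have hTH : ∀ i, ∃ t : T i, (t : G) ∉ H := by
        by_contra hcon
        push Not at hcon
        obtain ⟨i, hi⟩ := hcon
        apply hNK a
        intro n hn
        have h1 := (hA ⟨n, hn⟩).mpr (by
          intro j
          obtain ⟨k, hk, hkj⟩ := htrans i j
          obtain ⟨s, hs, hsn⟩ := (SetLike.ext_iff.mp hkj _).mp (e ⟨n, hn⟩ j).2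
          rw [← hsn]
          exact H.mul_mem (H.mul_mem hk (hi ⟨s, hs⟩)) (H.inv_mem hk))
        exact h1
      have hb := inv_factors (IH (n - 1) (by omega)) hn G N a h Set.univ ⟨⟨0, hm⟩, trivial⟩ 2
        le_rfl (fun i t => if (t : G) ∈ H then 0 else 1) (by
          intro i v
          obtain ⟨t, ht⟩ := hTH i
          fin_cases v
          · exact ⟨1, if_pos H.one_mem⟩
          · exact ⟨t, if_neg ht⟩) (by
          intro i t ht
          exact if_pos ht) (by
          intro i _ t s hts
          have : (t : G) ∈ H ↔ (s : G) ∈ H := by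
            constructor
            · intro h1
              have := H.mul_mem h1 hts
              simpa using this
            · intro h1
              have := H.mul_mem h1 (H.inv_mem hts)
              simpa using this
          simp only [this]) (by
          intro i k t hk ht
          have : k * (t : G) * k⁻¹ ∈ H ↔ (t : G) ∈ H := by
            constructor
            · intro h1
              have := H.mul_mem (H.mul_mem (H.inv_mem hk) h1) hk
              simpa [mul_assoc] using this
            · intro h1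
              exact H.mul_mem (H.mul_mem hk h1) (H.inv_mem hk)
          simp only [this]) (by
          intro n' _ hn'
          exact (hA n').mp hn')
      have hu : Nat.card (Set.univ : Set (Fin m)) = m := by simp
      rw [hu, ← hH] at hb
      have h7 := num_two m
      have h8 : m < 2 ^ m := Nat.lt_two_pow_self
      have b3 := (IH m (by omega)).homU h.perm (ι := Unit) (fun _ => ()) (by
        intro i
        exact ⟨⟨0, hm⟩, rfl⟩) (fun _ _ => rfl) (by simp)
      rw [Nat.card_unique] at b3
      omega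
    · -- case B
      let I : Set (Fin m) := {i | c i ≠ i}
      have hcI : ∀ i, c i ∉ I := fun i hi => hi (hcc i)
      -- the size of `I`
      have hIm : m ≤ 2 * Nat.card I := by
        choose f hf1 hf2 using hc2
        have h1 : Nat.card {i // i ∉ I} ≤ Nat.card I := by
          refine Nat.card_le_card_of_injective
            (fun r : {i // i ∉ I} => (⟨f r, fun h => hf1 r ?_⟩ : I)) ?_
          · rw [← h, hf2]
            exact not_not.mp r.2
          · intro r s hrs
            have h2 : f r = f s := congrArg Subtype.val hrs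
            apply Subtype.ext
            have h3 : c (r : Fin m) = c (s : Fin m) := by rw [← hf2 r, ← hf2 s, h2]
            have h4 : c (r : Fin m) = r := not_not.mp r.2
            have h5 : c (s : Fin m) = s := not_not.mp s.2
            rw [← h4, ← h5, h3]
        have h2 : Nat.card I + Nat.card {i // i ∉ I} = m := by
          rw [← Nat.card_sum, Nat.card_congr (Equiv.sumCompl (fun i => i ∈ I))]
          simp
        omega
      have hIne : I.Nonempty := by
        rw [Set.nonempty_iff_ne_empty]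
        intro hI
        rw [hI] at hIm
        simp at hIm
        omega
      -- elements of `H` supported on `I` are trivial
      have hone : ∀ n' : N, (∀ i, i ∉ I → e n' i = 1) → (n' : G) ∈ H → n' = 1 :=
        fun n' h1 h2 => hc3 n' h2 fun i => h1 _ (hcI i)
      have hTH : ∀ i, i ∈ I → ∀ t : T i, (t : G) ∈ H → t = 1 := by
        intro i hi t ht
        have h1 := hone (e.symm (Pi.mulSingle i t)) (by
          intro j hj
          rw [MulEquiv.apply_symm_apply, Pi.mulSingle_eq_of_ne]
          rintro rfl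
          exact hj hi) (by rw [h.single]; exact ht)
        have h2 := h.single i t
        rw [h1] at h2
        exact Subtype.ext h2.symm
      -- every factor meets `H` trivially
      have hTH' : ∀ i, ∀ t : T i, (t : G) ∈ H → t = 1 := by
        intro i t ht
        obtain ⟨i₀, hi₀⟩ := hIne
        obtain ⟨k, hk, hkj⟩ := htrans i i₀
        have h1 : k * (t : G) * k⁻¹ ∈ T i₀ := by rw [hkj]; exact ⟨t, t.2, rfl⟩
        have h2 := hTH i₀ hi₀ ⟨_, h1⟩ (H.mul_mem (H.mul_mem hk ht) (H.inv_mem hk))
        have h3 : k * (t : G) * k⁻¹ = 1 := congrArg Subtype.val h2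
        apply Subtype.ext
        have h4 : (t : G) = k⁻¹ * (k * (t : G) * k⁻¹) * k := by group
        rw [h4, h3]
        simp
      -- primes
      have hpr : ∀ i, ∃ p : ℕ, (∃ t : T i, t ≠ 1 ∧ orderOf t = p) ∧
          ∃ t : T i, t ≠ 1 ∧ orderOf t ≠ p := by
        intro i
        have := h.simple i
        have hne : Nat.card (T i) ≠ 1 := by
          intro h1
          have h2 := (Nat.card_eq_one_iff_unique.mp h1).1
          exact not_subsingleton (T i) h2
        obtain ⟨p, hp, hpd⟩ := Nat.exists_prime_and_dvd hne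
        have : Fact p.Prime := ⟨hp⟩
        obtain ⟨t, ht⟩ := exists_prime_orderOf_dvd_card' (G := T i) p hpd
        refine ⟨p, ⟨t, ?_, ht⟩, ?_⟩
        · rintro rfl
          rw [orderOf_one] at ht
          exact hp.one_lt.ne ht
        · by_contra hcon
          push Not at hcon
          have hpg : IsPGroup p (T i) := by
            intro s
            by_cases hs : s = 1
            · exact ⟨0, by rw [hs, one_pow]⟩
            · exact ⟨1, by rw [pow_one, ← hcon s hs, pow_orderOf_eq_one]⟩
          have hz : Nontrivial (Subgroup.center (T i)) := hpg.center_nontrivial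
          obtain ⟨x, y, hxy⟩ := h.nonab i
          rcases (inferInstance : (Subgroup.center (T i)).Normal).eq_bot_or_eq_top with h1 | h1
          · rw [h1] at hz
            exact not_subsingleton (⊥ : Subgroup (T i)) inferInstance
          · apply hxy
            have h2 : x ∈ Subgroup.center (T i) := by rw [h1]; exact mem_top x
            exact (Subgroup.mem_center_iff.mp h2 y).symm
      choose p hp1 hp2 using hpr
      have hb := inv_factors (IH (n - 1) (by omega)) hn G N a h I hIne 3
        (by norm_num) (fun i t => if t = 1 then 0 else if orderOf t = p i then 1 else 2) (by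
          intro i v
          obtain ⟨t, ht1, ht2⟩ := hp1 i
          obtain ⟨s, hs1, hs2⟩ := hp2 i
          fin_cases v
          · exact ⟨1, if_pos rfl⟩
          · exact ⟨t, by simp only [if_neg ht1, if_pos ht2]; rfl⟩
          · exact ⟨s, by simp only [if_neg hs1, if_neg hs2]; rfl⟩) (by
          intro i t ht
          rw [if_pos (hTH' i t ht)]
          rfl) (by
          intro i hi t s hts
          have h1 := hTH i hi _ hts
          have h2 : t = s := (inv_mul_eq_one.mp h1)
          rw [h2]) (by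
          intro i k t hk ht
          have h1 : orderOf (⟨k * (t : G) * k⁻¹, ht⟩ : T i) = orderOf t := by
            rw [← Subgroup.orderOf_coe, ← Subgroup.orderOf_coe t]
            exact orderOf_injective (MulAut.conj k).toMonoidHom (MulAut.conj k).injective (t : G)
          have h2 : (⟨k * (t : G) * k⁻¹, ht⟩ : T i) = 1 ↔ t = 1 := by
            rw [← orderOf_eq_one_iff, h1, orderOf_eq_one_iff]
          simp only [h1, h2]) (by
          intro n' h1 h2 i
          rw [hone n' h1 h2, map_one]
          exact H.one_mem)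
      -- `N ⊓ H` is not trivial
      have hNH : 0 < clen (N ⊓ H : Subgroup G) := by
        obtain ⟨x, y, hxy⟩ := h.nonab (c ⟨0, hm⟩)
        obtain ⟨n', hn', hn''⟩ := hc4 (Pi.mulSingle (c ⟨0, hm⟩) x)
        obtain ⟨n₂, hn₂, hn₂'⟩ := hc4 (Pi.mulSingle (c ⟨0, hm⟩) y)
        have h1 := hn'' ⟨0, hm⟩
        have h2 := hn₂' ⟨0, hm⟩
        rw [Pi.mulSingle_eq_same] at h1 h2
        have : Nontrivial (N ⊓ H : Subgroup G) := by
          refine ⟨⟨(⟨(n' : G), n'.2, hn'⟩ : (N ⊓ H : Subgroup G)), ⟨(n₂ : G), n₂.2, hn₂⟩,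
            fun h3 => hxy ?_⟩⟩
          have h4 : (n' : G) = n₂ := congrArg (fun z : (N ⊓ H : Subgroup G) => (z : G)) h3
          have h5 : n' = n₂ := Subtype.ext h4
          rw [← h1, ← h2, h5]
        exact clen_pos
      rw [← hH] at hb
      have h7 := num_three m _ hIm
      have h8 := lt_three_pow m _ hIm
      have b3 := (IH m (by omega)).homU h.perm (ι := Unit) (fun _ => ()) (by
        intro i
        exact ⟨⟨0, hm⟩, rfl⟩) (fun _ _ => rfl) (by simp)
      rw [Nat.card_unique] at b3
      omega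

theorem bd_all (n : ℕ) : Bd.{v} n := bd_of_prim prim_bd n

/-- A permutation representation of a finite group with `r` orbits on a finite set. -/
theorem clen_action_le {G Ω : Type*} [Group G] [Finite G] [Finite Ω] (φ : G →* Perm Ω)
    {ι : Type*} [Finite ι] (F : Ω → ι) (hF : Function.Surjective F)
    (hinv : ∀ k x, F (φ k x) = F x) :
    3 * clen φ.range + 4 * Nat.card ι ≤ 4 * Nat.card Ω :=
  (bd_all.{0} (Nat.card Ω)).homU φ F hF hinv rfl

end Cfsg.Agent.H893
end
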